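import Groth.Agent.EtaLib.Lift
import Mathlib.RingTheory.Spectrum.Prime.Topology
import Mathlib.RingTheory.SurjectiveOnStalks
import Mathlib.RingTheory.Localization.Integral
import Mathlib.RingTheory.Localization.LocalizationLocalization

/-! Localization of the pointwise rings at one element. -/

universe u

namespace Groth.Agent.EtaLib
open EtaPt

variable (η : FieldEndo.{u}) {A : Type u} [CommRing A] (f : A)

local notation "L" => Localization.Away f
local notation "loc" => algebraMap A (Localization.Away f)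

lemma res_loc_bijective (q : PrimeSpectrum L) : Function.Bijective (res loc q) :=
  (RingHom.surjectiveOnStalks_of_isLocalization (Submonoid.powers f) L).residueFieldMap_bijective _ _ rfl

lemma notMem_comap_loc (q : PrimeSpectrum L) : f ∉ (PrimeSpectrum.comap loc q).asIdeal :=
  fun h => q.2.ne_top (Ideal.eq_top_of_isUnit_mem _ h (IsLocalization.Away.algebraMap_isUnit f))

lemma exists_comap_loc {p : PrimeSpectrum A} (hp : f ∉ p.asIdeal) : ∃ q, PrimeSpectrum.comap loc q = p :=
  (Set.ext_iff.1 (PrimeSpectrum.localization_away_comap_range L f) p).2 hp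

lemma exists_extend (y : η.N L) :
    ∃ x : η.N A, η.Nmap loc x = y ∧ ∀ p : PrimeSpectrum A, f ∈ p.asIdeal → x p = 0 := by
  classical
  choose z hz using fun q => (map_bijective η (res_loc_bijective f q)).2 (y q)
  have key : ∀ p : PrimeSpectrum A, ∃ v : η.obj p.asIdeal.ResidueField,
      (f ∈ p.asIdeal → v = 0) ∧ ∀ q, (h : PrimeSpectrum.comap loc q = p) → v = h ▸ z q := by
    intro p
    by_cases hp : f ∈ p.asIdeal
    · exact ⟨0, fun _ => rfl, fun q h => by subst h; exact (notMem_comap_loc f q hp).elim⟩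
    · obtain ⟨q, rfl⟩ := exists_comap_loc f hp
      exact ⟨z q, fun h => (hp h).elim, fun q' h => by
        obtain rfl := PrimeSpectrum.localization_comap_injective L (Submonoid.powers f) h; rfl⟩
  choose x hx0 hx using key
  refine ⟨x, funext fun q => ?_, hx0⟩
  rw [Nmap_apply, hx _ q rfl]
  exact hz q

lemma t_mul_eq_zero {x : η.N A} (h : η.Nmap loc x = 0) : η.t A f * x = 0 := by
  funext p
  rw [Pi.mul_apply, Pi.zero_apply, t_apply]
  by_cases hp : f ∈ p.asIdeal
  · rw [Ideal.algebraMap_residueField_eq_zero.2 hp, map_zero, zero_mul]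
  · obtain ⟨q, rfl⟩ := exists_comap_loc f hp
    have h1 : η.map (res loc q) (x (PrimeSpectrum.comap loc q)) = 0 := congrFun h q
    rw [(map_eq_zero _).1 h1, mul_zero]

lemma finite_minimalPrimes_away (hA : (minimalPrimes A).Finite) : (minimalPrimes L).Finite := by
  have h := IsLocalization.minimalPrimes_map (Submonoid.powers f) L (⊥ : Ideal A)
  rw [Ideal.map_bot] at h
  change (Ideal.minimalPrimes (⊥ : Ideal L)).Finite
  rw [h]
  refine hA.preimage ?_
  intro P hP Q hQ e
  have hP' : P ∈ Ideal.minimalPrimes (⊥ : Ideal L) := by rw [h]; exact hP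
  have hQ' : Q ∈ Ideal.minimalPrimes (⊥ : Ideal L) := by rw [h]; exact hQ
  exact congrArg PrimeSpectrum.asIdeal (PrimeSpectrum.localization_comap_injective L (Submonoid.powers f)
    (a₁ := ⟨P, hP'.isPrime⟩) (a₂ := ⟨Q, hQ'.isPrime⟩) (PrimeSpectrum.ext e))

theorem exists_mem_M_away (hA : (minimalPrimes A).Finite) {y : η.N L} (hy : y ∈ η.M L) :
    ∃ x ∈ η.M A, ∃ n : ℕ, y * η.t L (loc f) ^ n = η.Nmap loc x := by
  letI : Algebra L (η.M L) := (η.q L).toAlgebra
  letI : Algebra A (η.M L) := ((η.q L).comp loc).toAlgebra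
  haveI : IsScalarTower A L (η.M L) := IsScalarTower.of_algebraMap_eq fun a => rfl
  obtain ⟨⟨m, k, rfl⟩, hint⟩ := IsIntegral.exists_multiple_integral_of_isLocalization (Submonoid.powers f)
    (⟨y, hy⟩ : η.M L) (q_isIntegral η (finite_minimalPrimes_away f hA) ⟨y, hy⟩)
  set z : η.M L := η.q L (loc (f ^ k)) * ⟨y, hy⟩ with hz
  obtain ⟨P, hP, hev⟩ : IsIntegral A z := by
    rw [Submonoid.smul_def, Algebra.smul_def] at hint
    exact hint
  obtain ⟨x, hx, hx0⟩ := exists_extend η f ((z : η.N L) * η.t L (loc f))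
  refine ⟨x, mem_M_of η fun R _ _ _ hR g => ?_, k + 1, ?_⟩
  swap
  · rw [hx, hz]
    change y * _ = η.t L (loc (f ^ k)) * y * η.t L (loc f)
    rw [map_pow, map_pow, pow_succ]
    ring
  rcases eq_or_ne (g f) 0 with hgf | hgf
  · refine ⟨0, fun q => ?_⟩
    obtain ⟨ρ, hρ⟩ := exists_hom_of_eq ((algebraMap R q.asIdeal.ResidueField).comp g) rfl
    rw [ev_eq η ρ hρ, hx0 _ (by
      rw [pt_asIdeal, RingHom.mem_ker, RingHom.comp_apply, hgf, map_zero]), map_zero, map_zero, map_zero]
  let R' := Localization.Away (g f)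
  have hle : Submonoid.powers (g f) ≤ nonZeroDivisors R := powers_le_nonZeroDivisors_of_noZeroDivisors hgf
  haveI : IsDomain R' := IsLocalization.isDomain_localization hle
  haveI : ValuationRing R' := ValuationRing.iff_dvd_total.2 ⟨fun a b => by
    obtain ⟨a, s, rfl⟩ := IsLocalization.exists_mk'_eq (Submonoid.powers (g f)) a
    obtain ⟨b, t, rfl⟩ := IsLocalization.exists_mk'_eq (Submonoid.powers (g f)) b
    have hu : ∀ (a : R) (s : Submonoid.powers (g f)),
        (IsLocalization.mk' R' a s ∣ algebraMap R R' a) ∧ algebraMap R R' a ∣ IsLocalization.mk' R' a s :=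
      fun a s => ⟨⟨algebraMap R R' s, (IsLocalization.mk'_spec R' a s).symm⟩,
        ⟨IsLocalization.mk' R' 1 s, (IsLocalization.mul_mk'_eq_mk'_of_mul (S := R') a 1 s).trans (by rw [mul_one]) |>.symm⟩⟩
    rcases (ValuationRing.iff_dvd_total.1 (inferInstance : ValuationRing R)).total a b with h | h
    · exact .inl (((hu a s).1.trans (map_dvd _ h)).trans (hu b t).2)
    · exact .inr (((hu b t).1.trans (map_dvd _ h)).trans (hu a s).2)⟩
  letI : Algebra R' (FractionRing R) := (IsLocalization.lift (M := Submonoid.powers (g f))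
    (g := algebraMap R (FractionRing R)) fun s => IsLocalization.map_units _ (⟨(s : R), hle s.2⟩ : nonZeroDivisors R)).toAlgebra
  haveI : IsScalarTower R R' (FractionRing R) := IsScalarTower.of_algebraMap_eq fun a =>
    (IsLocalization.lift_eq _ a).symm
  haveI : IsFractionRing R' (FractionRing R) :=
    IsFractionRing.isFractionRing_of_isDomain_of_isLocalization (Submonoid.powers (g f)) R' (FractionRing R)
  have hR' : η.InV R' := (inV_iff η R' (FractionRing R)).2 hR
  let g' : L →+* R' := Localization.awayMap g f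
  have hg' : g'.comp loc = (algebraMap R R').comp g := IsLocalization.map_comp _
  obtain ⟨r', hr'⟩ := z.2 R' hR' g'
  have hint' : IsIntegral R (algebraMap R' (FractionRing R) r') := by
    refine IsIntegral.algebraMap ?_
    refine ⟨P.map g, hP.map g, t_injective η ?_⟩
    have h1 := congrArg (η.Nmap g') (congrArg (η.M L).subtype hev)
    rw [Polynomial.hom_eval₂, Polynomial.hom_eval₂, map_zero, map_zero, Subring.subtype_apply, ← hr'] at h1
    rw [Polynomial.eval₂_map, Polynomial.hom_eval₂, map_zero, ← h1]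
    congr 1
    exact RingHom.ext fun a => ((Nmap_t η g' (loc a)).trans (congrArg (η.t R') (RingHom.congr_fun hg' a))).symm
  obtain ⟨r0, hr0⟩ := IsIntegrallyClosed.isIntegral_iff.1 hint'
  rw [IsScalarTower.algebraMap_apply R R' (FractionRing R)] at hr0
  obtain rfl : algebraMap R R' r0 = r' := IsFractionRing.injective R' _ hr0
  refine ⟨r0 * g f, fun q => ?_⟩
  set ψ := algebraMap R q.asIdeal.ResidueField with hψ
  rcases eq_or_ne (ψ (g f)) 0 with hqf | hqf
  · obtain ⟨ρ, hρ⟩ := exists_hom_of_eq (ψ.comp g) rfl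
    rw [ev_eq η ρ hρ, hx0 _ (by rw [pt_asIdeal, RingHom.mem_ker, RingHom.comp_apply, hqf]),
      map_zero, map_mul, hqf, mul_zero, map_zero]
  let ψ' : R' →+* q.asIdeal.ResidueField := IsLocalization.Away.lift (g f) hqf.isUnit
  have hψ' : ψ'.comp (algebraMap R R') = ψ := IsLocalization.Away.lift_comp (g f) hqf.isUnit
  have hloc : (ψ'.comp g').comp loc = ψ.comp g := by
    rw [RingHom.comp_assoc, hg', ← RingHom.comp_assoc, hψ']
  rw [← hloc, ← ev_Nmap, hx, map_mul, ev_t, ← ev_Nmap, ← hr', ev_t, ← map_mul]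
  congr 1
  rw [← RingHom.comp_apply (ψ'.comp g') loc f, hloc, RingHom.comp_apply,
    ← RingHom.comp_apply ψ' (algebraMap R R') r0, hψ', map_mul]

theorem rel_away {B : Type u} [CommRing B] (hA : (minimalPrimes A).Finite) (φ : A →+* B) :
    (η.rel φ).map (algebraMap B (Localization.Away (φ f))) ≤ η.rel (Localization.awayMap φ f) ∧
      ∀ y ∈ η.rel (Localization.awayMap φ f), ∃ x ∈ η.rel φ, ∃ n : ℕ,
        y * algebraMap B (Localization.Away (φ f)) (φ f) ^ n = algebraMap B (Localization.Away (φ f)) x := by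
  have hc : (Localization.awayMap φ f).comp loc = (algebraMap B (Localization.Away (φ f))).comp φ :=
    IsLocalization.map_comp _
  constructor
  · rintro _ ⟨b, ⟨x, hx, hxb⟩, rfl⟩
    exact ⟨η.Nmap loc x, mem_M_map η _ hx, by rw [← Nmap_comp, hc, Nmap_comp, hxb, Nmap_t]⟩
  · rintro y ⟨z, hz, hzy⟩
    obtain ⟨x, hx, n, hn⟩ := exists_mem_M_away η f hA hz
    obtain ⟨⟨b, ⟨_, m, rfl⟩⟩, hb⟩ := IsLocalization.surj (Submonoid.powers (φ f)) y
    set lB := algebraMap B (Localization.Away (φ f)) with hlB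
    have h1 : η.Nmap lB (η.Nmap φ x) = η.t _ y * η.t _ (lB (φ f)) ^ n := by
      rw [← Nmap_comp, ← hc, Nmap_comp, ← hn, map_mul, map_pow, Nmap_t, hzy]
      congr 2
      exact congrArg (η.t _) (RingHom.congr_fun hc f)
    have h2 : η.Nmap lB (η.t B (b * φ f ^ n) - η.Nmap φ x * η.t B (φ f ^ m)) = 0 := by
      simp only [map_sub, map_mul, h1, Nmap_t, map_pow, ← hb]
      ring
    have h3 := t_mul_eq_zero η (φ f) h2
    refine ⟨b * φ f ^ (n + 1), ⟨x * η.t A (f ^ (m + 1)), Subring.mul_mem _ hx (η.t_mem_M A _), ?_⟩, m + n + 1, ?_⟩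
    · simp only [map_mul, Nmap_t, map_pow]
      simp only [map_mul, map_pow] at h3
      linear_combination (-1 : η.N B) * h3
    · simp only [map_mul, map_pow] at hb ⊢
      rw [← hb]; ring

end Groth.Agent.EtaLib
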