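import Groth.Prelude.Def_W4c1chowmix47Eta
import Mathlib.RingTheory.Valuation.LocalSubring
import Mathlib.RingTheory.Ideal.MinimalPrime.Localization
import Mathlib.RingTheory.Ideal.GoingUp
import Mathlib.FieldTheory.IsAlgClosed.AlgebraicClosure
import Mathlib.FieldTheory.Perfect
import Mathlib.Algebra.CharP.Reduced
import Mathlib.Tactic

/-! Pointwise rings attached to a field endofunctor with a purely inseparable natural map. -/

universe u

namespace Groth.Agent.EtaLib
open EtaPt

section fields

variable (η : FieldEndo.{u}) {K L E : Type u} [Field K] [Field L] [Field E]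

lemma map_eta (f : K →+* L) (x : K) : η.map f (η.eta K x) = η.eta L (f x) :=
  RingHom.congr_fun (η.eta_natural f) x

/-- Frobenius-power injectivity -/
lemma pow_expChar_inj {S : Type*} [Field S] (ψ : K →+* S) {n : ℕ} {a b : S}
    (h : a ^ ringExpChar K ^ n = b ^ ringExpChar K ^ n) : a = b := by
  haveI : ExpChar S (ringExpChar K) := expChar_of_injective_ringHom ψ.injective _
  exact iterateFrobenius_inj S (ringExpChar K) n (by simpa [iterateFrobenius_def] using h)

lemma ringExpChar_eq (f : K →+* L) : ringExpChar L = ringExpChar K := by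
  haveI : ExpChar L (ringExpChar K) := expChar_of_injective_ringHom f.injective _
  exact ringExpChar.eq L _

lemma hom_ext {S : Type*} [Field S] {ψ₁ ψ₂ : η.obj K →+* S}
    (h : ∀ a, ψ₁ (η.eta K a) = ψ₂ (η.eta K a)) : ψ₁ = ψ₂ := by
  ext x
  obtain ⟨n, a, ha⟩ := η.exists_pow_mem_range_eta K x
  refine pow_expChar_inj (ψ₁.comp (η.eta K)) (n := n) ?_
  rw [← map_pow, ← map_pow, ← ha, h]

lemma map_comp_apply (f : K →+* L) (g : L →+* E) (x : η.obj K) :
    η.map g (η.map f x) = η.map (g.comp f) x := by rw [η.map_comp]; rfl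

lemma map_id_apply (x : η.obj K) : η.map (RingHom.id K) x = x := by rw [η.map_id]; rfl

lemma eta_obj_eq : η.eta (η.obj K) = η.map (η.eta K) :=
  hom_ext η fun a => (map_eta η (η.eta K) a).symm

lemma eta_obj_bijective : Function.Bijective (η.eta (η.obj K)) := by
  rw [eta_obj_eq]; exact η.bijective_map_eta K

lemma map_bijective {f : K →+* L} (hf : Function.Bijective f) : Function.Bijective (η.map f) := by
  let e := RingEquiv.ofBijective f hf
  refine ⟨(η.map f).injective, fun y => ⟨η.map e.symm.toRingHom y, ?_⟩⟩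
  rw [map_comp_apply, show f.comp e.symm.toRingHom = RingHom.id L from
    RingHom.ext fun x => e.apply_symm_apply x, map_id_apply]

lemma eta_bijective_iff {f : K →+* L} (hf : Function.Bijective f) :
    Function.Bijective (η.eta K) ↔ Function.Bijective (η.eta L) := by
  have hc : (η.map f) ∘ η.eta K = η.eta L ∘ f := congrArg DFunLike.coe (η.eta_natural f)
  rw [← (map_bijective η hf).of_comp_iff' (η.eta K), hc, Function.Bijective.of_comp_iff (η.eta L) hf]

end fields

section ev

variable (η : FieldEndo.{u}) {A B : Type u} [CommRing A] [CommRing B] {L E : Type u} [Field L] [Field E]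

/-- the point of a ring map to a field -/
def pt (φ : A →+* L) : PrimeSpectrum A := ⟨RingHom.ker φ, RingHom.ker_isPrime φ⟩

lemma pt_asIdeal (φ : A →+* L) : (pt φ).asIdeal = RingHom.ker φ := rfl

/-- the residue field map of a ring map to a field -/
noncomputable def resLift (φ : A →+* L) : (pt φ).asIdeal.ResidueField →+* L :=
  Ideal.ResidueField.lift _ φ le_rfl fun x hx => isUnit_iff_ne_zero.2 hx

@[simp] lemma resLift_algebraMap (φ : A →+* L) (a : A) : resLift φ (algebraMap A _ a) = φ a :=
  Ideal.ResidueField.lift_algebraMap (I := (pt φ).asIdeal) φ _ _ a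

/-- evaluation of `N η A` along a map to a field -/
noncomputable def ev (φ : A →+* L) : η.N A →+* η.obj L :=
  (η.map (resLift φ)).comp (Pi.evalRingHom (fun p : PrimeSpectrum A => η.obj p.asIdeal.ResidueField) (pt φ))

lemma congr_point {p p' : PrimeSpectrum A} (h : p = p') (r : p.asIdeal.ResidueField →+* L)
    (r' : p'.asIdeal.ResidueField →+* L) (hr : ∀ a, r (algebraMap A _ a) = r' (algebraMap A _ a)) (x : η.N A) :
    η.map r (x p) = η.map r' (x p') := by
  subst h
  rw [show r = r' from Ideal.ResidueField.ringHom_ext (RingHom.ext hr)]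

lemma ev_eq {φ : A →+* L} {p : PrimeSpectrum A} (r : p.asIdeal.ResidueField →+* L)
    (hr : ∀ a, r (algebraMap A _ a) = φ a) (x : η.N A) : ev η φ x = η.map r (x p) := by
  refine congr_point η ?_ _ r (fun a => by rw [resLift_algebraMap, hr]) x
  apply PrimeSpectrum.ext
  ext a
  rw [pt_asIdeal, RingHom.mem_ker, ← hr, map_eq_zero_iff _ r.injective, Ideal.algebraMap_residueField_eq_zero]

lemma ev_proj (p : PrimeSpectrum A) (x : η.N A) : ev η (algebraMap A p.asIdeal.ResidueField) x = x p := by
  rw [ev_eq η (RingHom.id _) (fun a => rfl), map_id_apply]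

lemma ev_comp_field (φ : A →+* L) (h : L →+* E) (x : η.N A) : ev η (h.comp φ) x = η.map h (ev η φ x) := by
  rw [ev_eq η (p := pt φ) (h.comp (resLift φ)) (fun a => by simp)]
  exact (map_comp_apply η _ _ _).symm

lemma Nmap_apply (g : A →+* B) (x : η.N A) (q : PrimeSpectrum B) :
    η.Nmap g x q = η.map (Ideal.ResidueField.map (PrimeSpectrum.comap g q).asIdeal q.asIdeal g rfl)
      (x (PrimeSpectrum.comap g q)) := rfl

lemma ev_Nmap (g : A →+* B) (φ : B →+* L) (x : η.N A) : ev η φ (η.Nmap g x) = ev η (φ.comp g) x := by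
  symm
  rw [ev_eq η ((resLift φ).comp
    (Ideal.ResidueField.map (PrimeSpectrum.comap g (pt φ)).asIdeal (pt φ).asIdeal g rfl))
    (fun a => (congrArg (resLift φ) (Ideal.ResidueField.map_algebraMap _ _ g rfl a)).trans (resLift_algebraMap φ (g a)))]
  exact (map_comp_apply η _ _ _).symm

lemma Nmap_eq_ev (g : A →+* B) (x : η.N A) (q : PrimeSpectrum B) :
    η.Nmap g x q = ev η ((algebraMap B q.asIdeal.ResidueField).comp g) x := by
  rw [← ev_Nmap, ev_proj]

lemma t_apply (a : A) (p : PrimeSpectrum A) :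
    η.t A a p = η.eta p.asIdeal.ResidueField (algebraMap A _ a) := rfl

lemma ev_t (φ : A →+* L) (a : A) : ev η φ (η.t A a) = η.eta L (φ a) := by
  rw [show ev η φ (η.t A a) = η.map (resLift φ) (η.t A a (pt φ)) from rfl, t_apply, map_eta, resLift_algebraMap]

lemma ext_ev {x y : η.N A} (h : ∀ p : PrimeSpectrum A,
    ev η (algebraMap A p.asIdeal.ResidueField) x = ev η (algebraMap A p.asIdeal.ResidueField) y) : x = y := by
  funext p; rw [← ev_proj η p x, ← ev_proj η p y, h]

lemma Nmap_comp {C : Type u} [CommRing C] (g : A →+* B) (h : B →+* C) (x : η.N A) :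
    η.Nmap (h.comp g) x = η.Nmap h (η.Nmap g x) :=
  ext_ev η fun p => by simp [ev_Nmap, RingHom.comp_assoc]

lemma Nmap_id (x : η.N A) : η.Nmap (RingHom.id A) x = x := ext_ev η fun p => by simp [ev_Nmap]

lemma Nmap_t (g : A →+* B) (a : A) : η.Nmap g (η.t A a) = η.t B (g a) := η.Nmap_t_apply g a

lemma eq_zero_of_ev {φ : A →+* L} {p : PrimeSpectrum A} (hp : p.asIdeal = RingHom.ker φ) {x : η.N A}
    (h : ev η φ x = 0) : x p = 0 := by
  obtain rfl : p = pt φ := PrimeSpectrum.ext hp
  exact (η.map (resLift φ)).injective (h.trans (map_zero _).symm)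

lemma Nmap_injective {g : A →+* B} (hg : Function.Surjective (PrimeSpectrum.comap g)) :
    Function.Injective (η.Nmap g) := by
  intro x y h
  funext p
  obtain ⟨q, rfl⟩ := hg p
  exact (η.map _).injective (by rw [← Nmap_apply, ← Nmap_apply, h])

lemma t_eq_zero_iff (a : A) : η.t A a = 0 ↔ IsNilpotent a := by
  rw [← mem_nilradical, nilradical_eq_sInf, Ideal.mem_sInf, funext_iff]
  constructor
  · intro h p hp
    haveI : p.IsPrime := hp
    have := h ⟨p, hp⟩
    rw [t_apply, Pi.zero_apply, map_eq_zero, Ideal.algebraMap_residueField_eq_zero] at this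
    exact this
  · intro h p
    rw [t_apply, Pi.zero_apply, map_eq_zero, Ideal.algebraMap_residueField_eq_zero]
    exact h p.2

lemma t_injective [IsReduced A] : Function.Injective (η.t A) :=
  (injective_iff_map_eq_zero _).2 fun a ha => ((t_eq_zero_iff η a).1 ha).eq_zero

end ev

section valuation

variable (η : FieldEndo.{u}) {A B : Type u} [CommRing A] [CommRing B]

lemma inV_iff (R : Type u) [CommRing R] [IsDomain R] (K : Type u) [Field K] [Algebra R K] [IsFractionRing R K] :
    η.InV R ↔ Function.Bijective (η.eta K) :=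
  eta_bijective_iff η (f := (FractionRing.algEquiv R K).toAlgHom.toRingHom) (FractionRing.algEquiv R K).bijective

/-- the value in the fraction field of a `V`-ring -/
lemma exists_value {R : Type u} [CommRing R] [IsDomain R] [ValuationRing R] (hR : η.InV R) (g : A →+* R)
    {x : η.N A} (hx : x ∈ η.M A) :
    ∃ r : R, ∀ (L : Type u) [Field L] (φ : R →+* L), ev η (φ.comp g) x = η.eta L (φ r) := by
  obtain ⟨r, hr⟩ := hx R hR g
  exact ⟨r, fun L _ φ => by rw [← ev_Nmap, ← hr, ev_t]⟩

lemma mem_M_of {x : η.N A} (h : ∀ (R : Type u) [CommRing R] [IsDomain R] [ValuationRing R], η.InV R →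
    ∀ g : A →+* R, ∃ r : R, ∀ q : PrimeSpectrum R,
      ev η ((algebraMap R q.asIdeal.ResidueField).comp g) x = η.eta _ (algebraMap R _ r)) : x ∈ η.M A := by
  intro R _ _ _ hR g
  obtain ⟨r, hr⟩ := h R hR g
  refine ⟨r, ext_ev η fun q => ?_⟩
  rw [ev_t, ev_Nmap, hr]

lemma mem_M_map (f : A →+* B) {x : η.N A} (hx : x ∈ η.M A) : η.Nmap f x ∈ η.M B := by
  intro R _ _ _ hR g
  rw [← Nmap_comp]; exact hx R hR (g.comp f)

lemma valuationSubring_inV {L : Type u} [Field L] (hL : Function.Bijective (η.eta L)) (V : ValuationSubring L) :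
    η.InV V := (inV_iff η V L).2 hL

/-- a `V`-ring dominating a pair of primes -/
lemma exists_dominating {p p' : PrimeSpectrum A} (h : p.asIdeal ≤ p'.asIdeal) {L : Type u} [Field L]
    (i : p.asIdeal.ResidueField →+* L) :
    ∃ (V : ValuationSubring L) (g : A →+* V), (∀ a, (g a : L) = i (algebraMap A _ a)) ∧
      PrimeSpectrum.comap g ⟨IsLocalRing.maximalIdeal V, inferInstance⟩ = p' := by
  have hu : ∀ s : p'.asIdeal.primeCompl, IsUnit ((i.comp (algebraMap A _)) s) := fun s =>
    isUnit_iff_ne_zero.2 fun h0 => s.2 (h (Ideal.algebraMap_residueField_eq_zero.1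
      ((map_eq_zero_iff _ i.injective).1 h0)))
  obtain ⟨V, hV, hloc⟩ := IsLocalRing.exists_factor_valuationRing
    (IsLocalization.lift (S := Localization.AtPrime p'.asIdeal) hu)
  refine ⟨V, (RingHom.codRestrict (IsLocalization.lift (S := Localization.AtPrime p'.asIdeal) hu) V.toSubring hV).comp
    (algebraMap A (Localization.AtPrime p'.asIdeal)), fun a => ?_, ?_⟩
  · exact IsLocalization.lift_eq hu a
  · apply PrimeSpectrum.ext
    ext a
    rw [← IsLocalization.AtPrime.to_map_mem_maximal_iff (Localization.AtPrime p'.asIdeal) p'.asIdeal a]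
    exact map_mem_nonunits_iff (RingHom.codRestrict _ V.toSubring hV) _

/-- elements of `M` are determined by their values at minimal primes -/
lemma M_eq_zero {x : η.N A} (hx : x ∈ η.M A)
    (h : ∀ p : PrimeSpectrum A, p.asIdeal ∈ minimalPrimes A → x p = 0) : x = 0 := by
  funext p'
  obtain ⟨p, hp, hle⟩ := Ideal.exists_minimalPrimes_le (J := p'.asIdeal) (I := ⊥) bot_le
  obtain ⟨P, rfl⟩ : ∃ P : PrimeSpectrum A, P.asIdeal = p := ⟨⟨p, hp.isPrime⟩, rfl⟩
  obtain ⟨V, g, hg, hpt⟩ := exists_dominating (p := P) (p' := p') hle (η.eta P.asIdeal.ResidueField)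
  obtain ⟨r, hr⟩ := exists_value η (valuationSubring_inV η (eta_obj_bijective η) V) g hx
  have h1 := hr _ (algebraMap V (η.obj P.asIdeal.ResidueField))
  rw [show (algebraMap V (η.obj P.asIdeal.ResidueField)).comp g = (η.eta _).comp (algebraMap A _) from RingHom.ext hg,
    ev_comp_field, ev_proj, h P hp, map_zero] at h1
  have hr0 : r = 0 :=
    IsFractionRing.injective V (η.obj P.asIdeal.ResidueField) (((η.eta _).injective (by rw [← h1, map_zero])).trans (map_zero _).symm)
  refine eq_zero_of_ev η (φ := (IsLocalRing.residue V).comp g) ?_ ?_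
  · rw [← hpt]
    ext a
    simp [RingHom.mem_ker, IsLocalRing.residue_eq_zero_iff]
  · rw [hr _ _, hr0, map_zero, map_zero]

lemma M_ext {x y : η.N A} (hx : x ∈ η.M A) (hy : y ∈ η.M A)
    (h : ∀ p : PrimeSpectrum A, p.asIdeal ∈ minimalPrimes A → x p = y p) : x = y :=
  sub_eq_zero.1 (M_eq_zero η (Subring.sub_mem _ hx hy) fun p hp => by simp [h p hp])

lemma isIntegralElem_proj {x : η.N A} (hx : x ∈ η.M A) (p : PrimeSpectrum A) :
    ((η.eta p.asIdeal.ResidueField).comp (algebraMap A p.asIdeal.ResidueField)).IsIntegralElem (x p) := by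
  set φ := (η.eta p.asIdeal.ResidueField).comp (algebraMap A p.asIdeal.ResidueField)
  letI := φ.toAlgebra
  have hmem : x p ∈ (integralClosure (Subring.closure (Set.range φ)) (η.obj p.asIdeal.ResidueField)).toSubring := by
    rw [← iInf_valuationSubring_superset, Subring.mem_iInf]
    rintro ⟨V, hV⟩
    obtain ⟨r, hr⟩ := exists_value η (valuationSubring_inV η (eta_obj_bijective η) V)
      (φ.codRestrict V.toSubring fun a => hV ⟨a, rfl⟩) hx
    have h1 := hr _ (algebraMap V (η.obj p.asIdeal.ResidueField))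
    rw [show (algebraMap V (η.obj p.asIdeal.ResidueField)).comp (φ.codRestrict V.toSubring fun a => hV ⟨a, rfl⟩) = φ from rfl,
      ev_comp_field, ev_proj, ← eta_obj_eq] at h1
    rw [(eta_obj_bijective η).injective h1]
    exact r.2
  have hcl : Subring.closure (Set.range φ) = φ.range := by
    rw [← RingHom.coe_range, Subring.closure_eq]
  obtain ⟨P, hP, hev⟩ : IsIntegral (Subring.closure (Set.range φ)) (x p) := hmem
  let j : A →+* Subring.closure (Set.range φ) := φ.codRestrict _ fun a => Subring.subset_closure ⟨a, rfl⟩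
  have hj : Function.Surjective j := fun ⟨y, hy⟩ => by
    rw [hcl] at hy
    obtain ⟨a, rfl⟩ := hy
    exact ⟨a, rfl⟩
  obtain ⟨Q, hQ, -, hQm⟩ := Polynomial.lifts_and_degree_eq_and_monic
    (show P ∈ Polynomial.lifts j from Polynomial.map_surjective j hj P) hP
  refine ⟨Q, hQm, ?_⟩
  rw [show φ = (algebraMap (Subring.closure (Set.range φ)) (η.obj p.asIdeal.ResidueField)).comp j from rfl,
    ← Polynomial.eval₂_map, hQ]
  exact hev

theorem q_isIntegral (hA : (minimalPrimes A).Finite) : (η.q A).IsIntegral := by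
  classical
  rintro ⟨x, hx⟩
  choose P hP hev using fun p : {p : PrimeSpectrum A // p.asIdeal ∈ minimalPrimes A} => isIntegralElem_proj η hx p.1
  haveI : Finite {p : PrimeSpectrum A // p.asIdeal ∈ minimalPrimes A} :=
    (hA.preimage fun _ _ _ _ h => PrimeSpectrum.ext h).to_subtype
  haveI := Fintype.ofFinite {p : PrimeSpectrum A // p.asIdeal ∈ minimalPrimes A}
  refine ⟨∏ p, P p, Polynomial.monic_prod_of_monic _ _ fun p _ => hP p, ?_⟩
  apply Subtype.ext
  refine M_eq_zero η (SetLike.coe_mem _) fun p hp => ?_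
  have e : ((Pi.evalRingHom (fun p : PrimeSpectrum A => η.obj p.asIdeal.ResidueField) p).comp (η.M A).subtype).comp (η.q A) =
      (η.eta p.asIdeal.ResidueField).comp (algebraMap A _) := rfl
  change ((Pi.evalRingHom (fun p : PrimeSpectrum A => η.obj p.asIdeal.ResidueField) p).comp (η.M A).subtype) _ = 0
  rw [Polynomial.hom_eval₂, e, Polynomial.eval₂_finsetProd]
  refine Finset.prod_eq_zero (i := ⟨p, hp⟩) (Finset.mem_univ _) ?_
  exact hev ⟨p, hp⟩

end valuation

end Groth.Agent.EtaLib
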