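import Mathlib.AlgebraicGeometry.Morphisms.UniversallyOpen
import Mathlib.AlgebraicGeometry.AffineScheme
import Mathlib.RingTheory.LocalRing.ResidueField.Fiber
import Mathlib.RingTheory.Ideal.MinimalPrime.Noetherian
import Mathlib.RingTheory.Ideal.GoingDown

/-! Finiteness of irreducible components along flat, finitely presented maps. -/

universe u

open AlgebraicGeometry CategoryTheory

namespace Groth.Agent.EtaLib

lemma finite_irreducibleComponents_of_cover {T : Type*} [TopologicalSpace T] {ι : Type*} [Finite ι]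
    {S : ι → Type*} [∀ i, TopologicalSpace (S i)] (j : ∀ i, S i → T) (hj : ∀ i, Topology.IsOpenEmbedding (j i))
    (hcov : ∀ t, ∃ i, t ∈ Set.range (j i)) (h : ∀ i, (irreducibleComponents (S i)).Finite) :
    (irreducibleComponents T).Finite := by
  refine (Set.finite_iUnion fun i => (h i).image (fun s => closure (j i '' s))).subset fun Z hZ => ?_
  obtain ⟨z, hz⟩ := hZ.1.nonempty
  obtain ⟨i, hi⟩ := hcov z
  refine Set.mem_iUnion.2 ⟨i, j i ⁻¹' Z, preimage_mem_irreducibleComponents hZ (hj i) ⟨z, hz, hi⟩, ?_⟩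
  obtain ⟨s, rfl⟩ := hi
  exact closure_image_preimage_of_isPreirreducible (j i) (hj i).isOpenMap Z ⟨s, hz⟩ hZ.1.isPreirreducible
    (isClosed_of_mem_irreducibleComponents Z hZ)

lemma finite_components_spec_iff (R : Type u) [CommRing R] :
    (irreducibleComponents (PrimeSpectrum R)).Finite ↔ (minimalPrimes R).Finite := by
  rw [← Set.finite_coe_iff, ← Set.finite_coe_iff]
  exact ((minimalPrimes.equivIrreducibleComponents R).toEquiv.trans OrderDual.ofDual).finite_iff.symm

/-- minimal primes of a flat algebra of finite type over a ring with finitely many of them -/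
lemma finite_minimalPrimes_of_flat (A B : Type u) [CommRing A] [CommRing B] [Algebra A B] [Module.Flat A B]
    [Algebra.FiniteType A B] (hA : (minimalPrimes A).Finite) : (minimalPrimes B).Finite := by
  classical
  have key : ∀ P ∈ minimalPrimes B, P.comap (algebraMap A B) ∈ minimalPrimes A := fun P hP => by
    haveI := hP.isPrime
    refine ⟨⟨inferInstance, bot_le⟩, fun p hp hle => ?_⟩
    haveI : p.IsPrime := hp.1
    obtain ⟨P', hle', hP', hover⟩ := Ideal.exists_ideal_le_liesOver_of_le (p := p) (q := P.under A) P hle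
    have : P ≤ P' := hP.2 ⟨hP', bot_le⟩ hle'
    exact (le_antisymm this hle') ▸ hover.over.ge
  refine (hA.biUnion fun p hp => (?_ : {P | P ∈ minimalPrimes B ∧ P.comap (algebraMap A B) = p}.Finite)).subset
    fun P hP => Set.mem_biUnion (key P hP) ⟨hP, rfl⟩
  haveI := hp.isPrime
  let e := PrimeSpectrum.preimageOrderIsoFiber A B ⟨p, inferInstance⟩
  haveI : IsNoetherianRing (p.Fiber B) := Algebra.FiniteType.isNoetherianRing p.ResidueField (p.Fiber B)
  have hfin : {Q : PrimeSpectrum (p.Fiber B) | Q.asIdeal ∈ minimalPrimes (p.Fiber B)}.Finite :=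
    (minimalPrimes.finite_of_isNoetherianRing (p.Fiber B)).preimage fun _ _ _ _ h => PrimeSpectrum.ext h
  refine ((hfin.image fun Q => (e.symm Q).1.asIdeal)).subset ?_
  rintro P ⟨hP, hPp⟩
  haveI := hP.isPrime
  let x : PrimeSpectrum.comap (algebraMap A B) ⁻¹' {⟨p, inferInstance⟩} :=
    ⟨⟨P, inferInstance⟩, PrimeSpectrum.ext hPp⟩
  refine ⟨e x, ⟨⟨(e x).2, bot_le⟩, fun q hq hle => ?_⟩, by simp only [OrderIso.symm_apply_apply]; rfl⟩
  have h1 : e.symm ⟨q, hq.1⟩ ≤ x := by
    rw [← e.le_iff_le, e.apply_symm_apply]; exact hle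
  have h2 : x ≤ e.symm ⟨q, hq.1⟩ := hP.2 ⟨(e.symm ⟨q, hq.1⟩).1.2, bot_le⟩ h1
  rw [← e.le_iff_le, e.apply_symm_apply] at h2
  exact h2

theorem finite_components_of_flat {Y X : Scheme.{u}} (f : Y ⟶ X) [Flat f] [LocallyOfFinitePresentation f]
    (hX : ∀ U : X.Opens, IsCompact (U : Set X) → (irreducibleComponents (U : Type u)).Finite)
    (V : Y.Opens) (hV : IsCompact (V : Set Y)) : (irreducibleComponents (V : Type u)).Finite := by
  have loc : ∀ y ∈ V, ∃ W : Y.Opens, y ∈ W ∧ W ≤ V ∧ (irreducibleComponents (W : Type u)).Finite := by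
    intro y hy
    obtain ⟨U, hU, hyU, -⟩ := TopologicalSpace.Opens.isBasis_iff_nbhd.1 X.isBasis_affineOpens
      (show f.base y ∈ (⊤ : X.Opens) from trivial)
    obtain ⟨W, hW, hyW, hWle⟩ := TopologicalSpace.Opens.isBasis_iff_nbhd.1 Y.isBasis_affineOpens
      (show y ∈ V ⊓ f ⁻¹ᵁ U from ⟨hy, hyU⟩)
    refine ⟨W, hyW, hWle.trans inf_le_left, ?_⟩
    have e : W ≤ f ⁻¹ᵁ U := hWle.trans inf_le_right
    have hflat := HasRingHomProperty.appLE @Flat f ‹_› ⟨U, hU⟩ ⟨W, hW⟩ e
    have hfp := HasRingHomProperty.appLE @LocallyOfFinitePresentation f ‹_› ⟨U, hU⟩ ⟨W, hW⟩ e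
    letI := (f.appLE U W e).hom.toAlgebra
    haveI : Module.Flat Γ(X, U) Γ(Y, W) := hflat
    haveI : Algebra.FinitePresentation Γ(X, U) Γ(Y, W) := hfp
    have hA : (irreducibleComponents (PrimeSpectrum Γ(X, U))).Finite := by
      have h1 := hX U hU.isCompact
      refine finite_irreducibleComponents_of_cover (ι := Unit) (S := fun _ => (U : Type u))
        (fun _ => ⇑(hU.isoSpec.hom.base)) (fun _ => hU.isoSpec.hom.isOpenEmbedding)
        (fun t => ⟨(), hU.isoSpec.hom.surjective t⟩) fun _ => h1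
    have hB : (irreducibleComponents (PrimeSpectrum Γ(Y, W))).Finite :=
      (finite_components_spec_iff _).2 (finite_minimalPrimes_of_flat Γ(X, U) Γ(Y, W)
        ((finite_components_spec_iff _).1 hA))
    exact finite_irreducibleComponents_of_cover (ι := Unit) (S := fun _ => PrimeSpectrum Γ(Y, W))
      (fun _ => ⇑(hW.isoSpec.inv.base)) (fun _ => hW.isoSpec.inv.isOpenEmbedding)
      (fun t => ⟨(), hW.isoSpec.inv.surjective t⟩) fun _ => hB
  choose W hyW hWV hWfin using loc
  obtain ⟨s, hs⟩ := hV.elim_finite_subcover (fun y : V => (W y.1 y.2 : Set Y)) (fun y => (W y.1 y.2).isOpen)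
    fun y hy => Set.mem_iUnion.2 ⟨⟨y, hy⟩, hyW y hy⟩
  refine finite_irreducibleComponents_of_cover (ι := s) (S := fun i => (W i.1.1 i.1.2 : Type u))
    (fun i => Set.inclusion (hWV i.1.1 i.1.2)) (fun i => ?_) (fun t => ?_) fun i => hWfin _ _
  · exact Topology.IsOpenEmbedding.inclusion (hWV i.1.1 i.1.2) ((W i.1.1 i.1.2).isOpen.preimage continuous_subtype_val)
  · obtain ⟨i, hi, ht⟩ := Set.mem_iUnion₂.1 (hs t.2)
    exact ⟨⟨i, hi⟩, ⟨t.1, ht⟩, rfl⟩

end Groth.Agent.EtaLib
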