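import Groth.Agent.EtaLib.Basic

/-! Ring maps inducing a bijection on pointwise products. -/

universe u

namespace Groth.Agent.EtaLib
open EtaPt

variable (η : FieldEndo.{u}) {A B C : Type u} [CommRing A] [CommRing B] [CommRing C]

/-- residue field map at a prime -/
noncomputable abbrev res (f : A →+* B) (q : PrimeSpectrum B) :
    (PrimeSpectrum.comap f q).asIdeal.ResidueField →+* q.asIdeal.ResidueField :=
  Ideal.ResidueField.map (PrimeSpectrum.comap f q).asIdeal q.asIdeal f rfl

lemma Nmap_bijective_iff (f : A →+* B) :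
    Function.Bijective (η.Nmap f) ↔
      Function.Bijective (PrimeSpectrum.comap f) ∧ ∀ q, Function.Bijective (η.map (res f q)) := by
  classical
  constructor
  · intro h
    have hinj : Function.Injective (PrimeSpectrum.comap f) := by
      intro q q' hq
      by_contra hne
      obtain ⟨x, hx⟩ := h.2 (Pi.single q 1)
      have h1 := congrFun hx q
      have h2 := congrFun hx q'
      rw [Pi.single_eq_same, Nmap_apply] at h1
      rw [Pi.single_eq_of_ne (Ne.symm hne), Nmap_apply, map_eq_zero] at h2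
      have h3 : x (PrimeSpectrum.comap f q) = 0 := by rw [hq]; exact h2
      rw [h3, map_zero] at h1
      exact zero_ne_one h1
    have hsurj : Function.Surjective (PrimeSpectrum.comap f) := by
      intro p
      by_contra hne
      push Not at hne
      have h0 : η.Nmap f (Pi.single p 1) = η.Nmap f 0 := by
        funext q
        rw [Nmap_apply, Nmap_apply, Pi.single_eq_of_ne (hne q)]
        rfl
      have := congrFun (h.1 h0) p
      rw [Pi.single_eq_same] at this
      exact one_ne_zero this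
    refine ⟨⟨hinj, hsurj⟩, fun q => ⟨(η.map _).injective, fun y => ?_⟩⟩
    obtain ⟨x, hx⟩ := h.2 (Pi.single q y)
    have h1 := congrFun hx q
    rw [Pi.single_eq_same, Nmap_apply] at h1
    exact ⟨_, h1⟩
  · rintro ⟨hc, hr⟩
    refine ⟨Nmap_injective η hc.2, fun y => ?_⟩
    have hz : ∀ q, ∃ z, η.map (res f q) z = y q := fun q => (hr q).2 (y q)
    choose z hz using hz
    let e := Equiv.ofBijective _ hc
    have key : ∀ p, ∃ v : η.obj (PrimeSpectrum.asIdeal p).ResidueField,
        ∀ q, (h : PrimeSpectrum.comap f q = p) → v = h ▸ z q := fun p => by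
      obtain ⟨q, rfl⟩ := hc.2 p
      exact ⟨z q, fun q' h => by obtain rfl := hc.1 h; rfl⟩
    choose x hx using key
    refine ⟨x, funext fun q => ?_⟩
    rw [Nmap_apply, hx _ q rfl]
    exact hz q

/-- `N f` bijective iff `Spec f` bijective and each `η` factors through the residue field extension. -/
lemma Nmap_bijective_iff_factor (f : A →+* B) :
    Function.Bijective (η.Nmap f) ↔ Function.Bijective (PrimeSpectrum.comap f) ∧
      ∀ q : PrimeSpectrum B, ∃ φ : q.asIdeal.ResidueField →+* η.obj (PrimeSpectrum.comap f q).asIdeal.ResidueField,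
        φ.comp (res f q) = η.eta _ := by
  rw [Nmap_bijective_iff]
  refine and_congr_right fun _ => forall_congr' fun q => ⟨fun h => ?_, fun ⟨φ, hφ⟩ => ?_⟩
  · let e := RingEquiv.ofBijective _ h
    refine ⟨e.symm.toRingHom.comp (η.eta _), RingHom.ext fun a => e.injective ?_⟩
    simp only [RingHom.comp_apply, RingEquiv.toRingHom_eq_coe, RingHom.coe_coe, RingEquiv.apply_symm_apply]
    exact (map_eta η (res f q) a).symm
  · refine ⟨(η.map _).injective, fun y => ?_⟩
    obtain ⟨z, hz⟩ := (η.bijective_map_eta _).2 (η.map φ y)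
    refine ⟨z, (η.map φ).injective ?_⟩
    rw [map_comp_apply, hφ, hz]

lemma res_exists_pow {f : A →+* B} (hf : Function.Bijective (η.Nmap f)) (q : PrimeSpectrum B)
    (z : q.asIdeal.ResidueField) :
    ∃ (n : ℕ) (a : (PrimeSpectrum.comap f q).asIdeal.ResidueField),
      z ^ ringExpChar (PrimeSpectrum.comap f q).asIdeal.ResidueField ^ n = res f q a := by
  obtain ⟨w, hw⟩ := ((Nmap_bijective_iff η f).1 hf).2 q |>.2 (η.eta _ z)
  obtain ⟨n, a, ha⟩ := η.exists_pow_mem_range_eta _ w
  refine ⟨n, a, (η.eta _).injective ?_⟩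
  rw [map_pow, ← hw, ← map_pow, ← ha, map_eta]

lemma exists_hom_of_eq {L : Type u} [Field L] (φ : A →+* L) {p : PrimeSpectrum A} (h : p = pt φ) :
    ∃ ρ : p.asIdeal.ResidueField →+* L, ∀ a, ρ (algebraMap A _ a) = φ a := by
  subst h; exact ⟨resLift φ, resLift_algebraMap φ⟩

/-- maps to a field agreeing after `f` agree -/
lemma hom_ext_of_bijective {f : A →+* B} (hf : Function.Bijective (η.Nmap f)) {S : Type u} [Field S]
    {ψ₁ ψ₂ : B →+* S} (h : ψ₁.comp f = ψ₂.comp f) : ψ₁ = ψ₂ := by
  have hpt : pt ψ₁ = pt ψ₂ := by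
    refine ((Nmap_bijective_iff η f).1 hf).1.1 (PrimeSpectrum.ext ?_)
    change (RingHom.ker ψ₁).comap f = (RingHom.ker ψ₂).comap f
    ext a
    rw [Ideal.mem_comap, Ideal.mem_comap, RingHom.mem_ker, RingHom.mem_ker]
    exact Eq.congr_left (RingHom.congr_fun h a)
  obtain ⟨r, hr⟩ := exists_hom_of_eq ψ₂ hpt
  have key : ∀ z, r z = resLift ψ₁ z := by
    intro z
    obtain ⟨n, a, ha⟩ := res_exists_pow η hf (pt ψ₁) z
    refine pow_expChar_inj (r.comp (res f (pt ψ₁))) (n := n) ?_
    rw [← map_pow, ← map_pow, ha]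
    refine RingHom.congr_fun (f := r.comp (res f (pt ψ₁))) (g := (resLift ψ₁).comp (res f (pt ψ₁))) ?_ a
    refine Ideal.ResidueField.ringHom_ext (RingHom.ext fun a => ?_)
    simp only [RingHom.comp_apply, res]
    erw [Ideal.ResidueField.map_algebraMap]
    rw [hr, resLift_algebraMap]
    exact (RingHom.congr_fun h a).symm
  ext b
  rw [← hr b, key, resLift_algebraMap]

lemma hom_ext_reduced {f : A →+* B} (hf : Function.Bijective (η.Nmap f)) {S : Type u} [CommRing S] [IsReduced S]
    {ψ₁ ψ₂ : B →+* S} (h : ψ₁.comp f = ψ₂.comp f) : ψ₁ = ψ₂ := by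
  refine RingHom.ext fun b => t_injective η (funext fun p => ?_)
  rw [t_apply, t_apply]
  exact congrArg _ (RingHom.congr_fun (hom_ext_of_bijective η hf (ψ₁ := (algebraMap S _).comp ψ₁)
    (ψ₂ := (algebraMap S p.asIdeal.ResidueField).comp ψ₂) (by rw [RingHom.comp_assoc, h, RingHom.comp_assoc])) b)

lemma hom_ext_M {f : A →+* B} (hf : Function.Bijective (η.Nmap f))
    {ψ₁ ψ₂ : B →+* η.M C} (h : ψ₁.comp f = ψ₂.comp f) : ψ₁ = ψ₂ := by
  refine RingHom.ext fun b => Subtype.ext (funext fun p => ?_)
  exact RingHom.congr_fun (hom_ext_of_bijective η hf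
    (ψ₁ := ((Pi.evalRingHom (fun p : PrimeSpectrum C => η.obj p.asIdeal.ResidueField) p).comp (η.M C).subtype).comp ψ₁)
    (ψ₂ := ((Pi.evalRingHom (fun p : PrimeSpectrum C => η.obj p.asIdeal.ResidueField) p).comp (η.M C).subtype).comp ψ₂)
    (RingHom.ext fun a => congrArg (fun z : η.M C => (z : η.N C) p) (RingHom.congr_fun h a))) b

lemma exists_extend_field {f : A →+* B} (hf : Function.Bijective (η.Nmap f)) {L : Type u} [Field L]
    (hL : Function.Bijective (η.eta L)) (φ : A →+* L) : ∃ ψ : B →+* L, ψ.comp f = φ := by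
  obtain ⟨⟨-, hs⟩, hr⟩ := (Nmap_bijective_iff_factor η f).1 hf
  obtain ⟨q, hq⟩ := hs (pt φ)
  obtain ⟨ρ, hρ⟩ := exists_hom_of_eq φ hq
  obtain ⟨θ, hθ⟩ := hr q
  let e := RingEquiv.ofBijective _ hL
  refine ⟨e.symm.toRingHom.comp ((η.map ρ).comp (θ.comp (algebraMap B _))), RingHom.ext fun a => e.injective ?_⟩
  simp only [RingHom.comp_apply, RingEquiv.toRingHom_eq_coe, RingHom.coe_coe, RingEquiv.apply_symm_apply]
  have h1 : θ (algebraMap B q.asIdeal.ResidueField (f a)) = η.eta _ (algebraMap A _ a) :=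
    (congrArg θ (Ideal.ResidueField.map_algebraMap _ _ f rfl a)).symm.trans (RingHom.congr_fun hθ _)
  rw [h1, map_eta, hρ]
  rfl

lemma exists_factor {f : A →+* B} (hf : f.IsIntegral) (hN : Function.Bijective (η.Nmap f))
    (R : Type u) [CommRing R] [IsDomain R] [ValuationRing R] (hR : η.InV R) (g : A →+* R) :
    ∃ g' : B →+* R, g'.comp f = g := by
  obtain ⟨ψ, hψ⟩ := exists_extend_field η hN hR ((algebraMap R (FractionRing R)).comp g)
  have hint : ∀ b, ∃ r, algebraMap R (FractionRing R) r = ψ b := fun b => by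
    obtain ⟨P, hP, hev⟩ := hf b
    refine IsIntegrallyClosed.isIntegral_iff.1 ⟨P.map g, hP.map g, ?_⟩
    rw [Polynomial.eval₂_map, ← hψ, ← Polynomial.hom_eval₂, hev, map_zero]
  choose r hr using hint
  have hinj := IsFractionRing.injective R (FractionRing R)
  refine ⟨⟨⟨⟨r, hinj (by rw [hr, map_one, map_one])⟩, fun a b => hinj (by rw [map_mul, hr, hr, hr, map_mul])⟩,
    hinj (by rw [hr, map_zero, map_zero]), fun a b => hinj (by rw [map_add, hr, hr, hr, map_add])⟩, ?_⟩
  exact RingHom.ext fun a => hinj ((hr (f a)).trans (RingHom.congr_fun hψ a))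

theorem Nmap_bijOn_M {f : A →+* B} (hf : f.IsIntegral) (hN : Function.Bijective (η.Nmap f)) :
    Set.BijOn (η.Nmap f) (η.M A) (η.M B) := by
  refine ⟨fun x hx => mem_M_map η f hx, hN.1.injOn, fun y hy => ?_⟩
  obtain ⟨x, rfl⟩ := hN.2 y
  refine ⟨x, fun R _ _ _ hR g => ?_, rfl⟩
  obtain ⟨g', rfl⟩ := exists_factor η hf hN R hR g
  rw [Nmap_comp]
  exact hy R hR g'

theorem mem_M_iff_of_isIntegral {f : A →+* B} (hf : f.IsIntegral)
    (hs : Function.Surjective (PrimeSpectrum.comap f)) (x : η.N A) :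
    x ∈ η.M A ↔ η.Nmap f x ∈ η.M B := by
  refine ⟨fun hx => mem_M_map η f hx, fun hy R _ _ _ hR g => ?_⟩
  obtain ⟨q, hq⟩ := hs (pt ((algebraMap R (FractionRing R)).comp g))
  obtain ⟨ρ, hρ⟩ := exists_hom_of_eq ((algebraMap R (FractionRing R)).comp g) hq
  let p := PrimeSpectrum.comap f q
  -- an algebraically closed field receiving both residue fields
  let Ω := AlgebraicClosure (FractionRing R)
  let ρ' := (algebraMap (FractionRing R) Ω).comp ρ
  letI : Algebra p.asIdeal.ResidueField Ω := ρ'.toAlgebra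
  letI : Algebra p.asIdeal.ResidueField q.asIdeal.ResidueField := (res f q).toAlgebra
  haveI : Algebra.IsAlgebraic p.asIdeal.ResidueField q.asIdeal.ResidueField := by
    refine ⟨fun z => ?_⟩
    obtain ⟨⟨b, s⟩, hz⟩ := IsLocalization.surj (nonZeroDivisors (B ⧸ q.asIdeal)) z
    obtain ⟨b, rfl⟩ := Ideal.Quotient.mk_surjective b
    obtain ⟨s', hs'⟩ := Ideal.Quotient.mk_surjective (s : B ⧸ q.asIdeal)
    have halg : ∀ b : B, IsAlgebraic p.asIdeal.ResidueField (algebraMap B q.asIdeal.ResidueField b) := fun b => by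
      obtain ⟨P, hP, hev⟩ := hf b
      refine IsIntegral.isAlgebraic ⟨P.map (algebraMap A _), hP.map _, ?_⟩
      have e : (algebraMap p.asIdeal.ResidueField q.asIdeal.ResidueField).comp (algebraMap A _) =
          (algebraMap B q.asIdeal.ResidueField).comp f := RingHom.ext fun a => by
        exact Ideal.ResidueField.map_algebraMap _ _ f rfl a
      rw [Polynomial.eval₂_map, e, ← Polynomial.hom_eval₂, hev, map_zero]
    have hne : algebraMap (B ⧸ q.asIdeal) q.asIdeal.ResidueField (s : B ⧸ q.asIdeal) ≠ 0 :=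
      (IsLocalization.map_units _ s).ne_zero
    rw [← eq_div_iff hne] at hz
    rw [hz, ← hs']
    exact (halg b).mul (halg s').inv
  let σ : q.asIdeal.ResidueField →ₐ[p.asIdeal.ResidueField] Ω := IsAlgClosed.lift
  -- a V-field over it
  let ι : FractionRing R →+* η.obj Ω := (η.eta Ω).comp (algebraMap _ _)
  let ψ : B →+* η.obj Ω := ((η.eta Ω).comp σ.toRingHom).comp (algebraMap B _)
  have hψ : ψ.comp f = (ι.comp (algebraMap R (FractionRing R))).comp g := by
    refine RingHom.ext fun a => congrArg (η.eta Ω) ?_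
    have h1 := σ.commutes (algebraMap A p.asIdeal.ResidueField a)
    change σ (res f q (algebraMap A p.asIdeal.ResidueField a)) = ρ' (algebraMap A p.asIdeal.ResidueField a) at h1
    rw [show res f q (algebraMap A p.asIdeal.ResidueField a) = algebraMap B _ (f a) from
      Ideal.ResidueField.map_algebraMap _ _ f rfl a] at h1
    exact h1.trans (congrArg (algebraMap (FractionRing R) Ω) (hρ a))
  obtain ⟨V, hV, hloc⟩ := IsLocalRing.exists_factor_valuationRing (ι.comp (algebraMap R (FractionRing R)))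
  let h : R →+* V := (ι.comp (algebraMap R (FractionRing R))).codRestrict V.toSubring hV
  haveI : IsLocalHom h := hloc
  have hψV : ∀ b, ψ b ∈ V := fun b => by
    obtain ⟨P, hP, hev⟩ := hf b
    obtain ⟨v, hv⟩ := IsIntegrallyClosed.isIntegral_iff.1
      (show IsIntegral V (ψ b) from ⟨P.map (h.comp g), hP.map _, by
        rw [Polynomial.eval₂_map, show (algebraMap V (η.obj Ω)).comp (h.comp g) = ψ.comp f by rw [hψ]; rfl,
          ← Polynomial.hom_eval₂, hev, map_zero]⟩)
    rw [← hv]; exact v.2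
  let g' : B →+* V := ψ.codRestrict V.toSubring hψV
  have hgg : g'.comp f = h.comp g := RingHom.ext fun a => Subtype.ext (RingHom.congr_fun hψ a)
  obtain ⟨v, hv⟩ := hy V (valuationSubring_inV η (eta_obj_bijective η) V) g'
  rw [← Nmap_comp, hgg, Nmap_comp] at hv
  -- descend the value
  obtain ⟨y0, hy0⟩ := hR.2 (ev η (algebraMap R (FractionRing R)) (η.Nmap g x))
  have hvy : (v : η.obj Ω) = ι y0 := by
    have h1 := congrArg (ev η (algebraMap V (η.obj Ω))) hv
    rw [ev_t, ev_Nmap, show (algebraMap V (η.obj Ω)).comp h = ι.comp (algebraMap R (FractionRing R)) from rfl,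
      ev_comp_field, ← hy0, map_eta] at h1
    exact (eta_obj_bijective η).injective h1
  obtain ⟨r, rfl⟩ : ∃ r, algebraMap R (FractionRing R) r = y0 := by
    rcases ValuationRing.isInteger_or_isInteger R y0 with ⟨r, hr⟩ | ⟨r, hr⟩
    · exact ⟨r, hr⟩
    rcases eq_or_ne y0 0 with rfl | hy00
    · exact ⟨0, map_zero _⟩
    by_cases hu : IsUnit r
    · obtain ⟨u, rfl⟩ := hu
      refine ⟨(↑u⁻¹ : R), ?_⟩
      rw [map_units_inv, hr, inv_inv]
    · exfalso
      have hh : h r * v = 1 := Subtype.ext (by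
        change ι (algebraMap R (FractionRing R) r) * (v : η.obj Ω) = 1
        rw [hvy, hr, ← map_mul, inv_mul_cancel₀ hy00, map_one])
      exact hu (isUnit_of_map_unit h r (IsUnit.of_mul_eq_one _ hh))
  refine ⟨r, Nmap_injective η (g := h) ?_ ?_⟩
  · intro P
    have hP : (P.asIdeal.map h).comap h = P.asIdeal := by
      refine le_antisymm (fun a ha => ?_) Ideal.le_comap_map
      -- in a valuation ring every element of the extension is a multiple of an element of `P`
      have key : ∀ z ∈ P.asIdeal.map h, ∃ p ∈ P.asIdeal, ∃ w : V, z = h p * w := by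
        intro z hz
        induction hz using Submodule.span_induction with
        | mem z hz => obtain ⟨p, hp, rfl⟩ := hz; exact ⟨p, hp, 1, (mul_one _).symm⟩
        | zero => exact ⟨0, zero_mem _, 0, by simp⟩
        | add z z' _ _ ih ih' =>
          obtain ⟨p, hp, w, rfl⟩ := ih
          obtain ⟨p', hp', w', rfl⟩ := ih'
          rcases ValuationRing.cond p p' with ⟨c, hc | hc⟩
          · exact ⟨p, hp, w + h c * w', by rw [← hc, map_mul]; ring⟩
          · exact ⟨p', hp', h c * w + w', by rw [← hc, map_mul]; ring⟩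
        | smul c z _ ih => obtain ⟨p, hp, w, rfl⟩ := ih; exact ⟨p, hp, c * w, by simp [mul_left_comm]⟩
      obtain ⟨p, hp, w, hw⟩ := key _ ha
      rcases eq_or_ne p 0 with rfl | hp0
      · have : h a = 0 := by rw [hw, map_zero, zero_mul]
        have ha0 : a = 0 := IsFractionRing.injective R (FractionRing R)
          (ι.injective ((congrArg Subtype.val this).trans (map_zero _).symm |>.trans (congrArg ι (map_zero _)).symm))
        rw [ha0]; exact zero_mem _
      rcases ValuationRing.cond p a with ⟨c, hc | hc⟩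
      · rw [← hc]; exact Ideal.mul_mem_right _ _ hp
      · -- `p = a c`
        rcases eq_or_ne a 0 with rfl | ha0
        · exact zero_mem _
        have hh : h c * w = 1 := by
          have hne : h a ≠ 0 := fun h0 => ha0 (IsFractionRing.injective R (FractionRing R)
            (ι.injective ((congrArg Subtype.val h0).trans (map_zero _).symm |>.trans (congrArg ι (map_zero _)).symm)))
          apply mul_left_cancel₀ hne
          rw [← mul_assoc, ← map_mul, hc, ← hw, mul_one]
        have hu : IsUnit c := isUnit_of_map_unit h c (IsUnit.of_mul_eq_one _ hh)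
        exact (Ideal.mul_unit_mem_iff_mem _ hu).1 (hc ▸ hp)
    obtain ⟨Q, hQ, hQc⟩ := (Ideal.comap_map_eq_self_iff_of_isPrime P.asIdeal).1 hP
    exact ⟨⟨Q, hQ⟩, PrimeSpectrum.ext hQc⟩
  · rw [Nmap_t, ← hv]
    congr 1
    exact Subtype.ext hvy.symm

end Groth.Agent.EtaLib
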