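import Groth.Agent.EtaLib.Lift
import Groth.Agent.UnivHomeo.Scheme
import Groth.Prelude.Def_HTop2

/-! The identity endofunctor: good maps are universal homeomorphisms with trivial residue extensions. -/

universe u

open AlgebraicGeometry CategoryTheory

namespace Groth.Agent.EtaLib
open EtaPt

variable {A B : Type u} [CommRing A] [CommRing B]


/-- integral, `N`-bijective maps are universal homeomorphisms with trivial residue extensions -/
theorem univHomeo_of_Nmap_bijective (φ : A →+* B) (hint : φ.IsIntegral)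
    (hN : Function.Bijective (FieldEndo.ident.{u}.Nmap φ)) :
    FlatMor.IsUnivHomeo (Spec.map (CommRingCat.ofHom φ)) ∧
      HTop.ResidueFieldsIso (Spec.map (CommRingCat.ofHom φ)) := by
  obtain ⟨⟨-, hs⟩, hr⟩ := (Nmap_bijective_iff FieldEndo.ident.{u} φ).1 hN
  refine ⟨(UnivHomeo.isUnivHomeo_iff φ).2 ⟨hint, fun K _ g₁ g₂ h => hom_ext_of_bijective FieldEndo.ident.{u} hN h, ?_⟩, ?_⟩
  · intro a ha
    rw [nilradical_eq_sInf, Ideal.mem_sInf]
    intro P hP
    obtain ⟨Q, hQ⟩ := hs ⟨P, hP⟩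
    rw [show P = Q.asIdeal.comap φ from (congrArg PrimeSpectrum.asIdeal hQ).symm, Ideal.mem_comap, ha]
    exact zero_mem _
  · have htriv : UnivHomeo.Triv φ := by
      intro q hq b
      obtain ⟨w, hw⟩ : ∃ w : (q.comap φ).ResidueField, res φ ⟨q, hq⟩ w = algebraMap B q.ResidueField b :=
        (hr ⟨q, hq⟩).2 (algebraMap B q.ResidueField b)
      obtain ⟨⟨a, s⟩, hws⟩ := IsLocalization.surj (nonZeroDivisors (A ⧸ q.comap φ)) w
      obtain ⟨a, rfl⟩ := Ideal.Quotient.mk_surjective a
      obtain ⟨s, hs0⟩ := s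
      obtain ⟨s, rfl⟩ := Ideal.Quotient.mk_surjective s
      refine ⟨a, s, fun h => nonZeroDivisors.ne_zero hs0 (Ideal.Quotient.eq_zero_iff_mem.2 h), ?_⟩
      have h1 := (map_mul (res φ ⟨q, hq⟩) w _).symm.trans (congrArg (res φ ⟨q, hq⟩) hws)
      have e : ∀ c : A, res φ ⟨q, hq⟩ (algebraMap (A ⧸ q.comap φ) (q.comap φ).ResidueField (Ideal.Quotient.mk _ c)) =
          algebraMap B q.ResidueField (φ c) := fun c => Ideal.ResidueField.map_algebraMap _ _ φ rfl c
      have h2 : algebraMap B q.ResidueField b * algebraMap B q.ResidueField (φ s) = algebraMap B q.ResidueField (φ a) :=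
        ((congrArg₂ (· * ·) hw (e s)).symm.trans h1).trans (e a)
      rw [← Ideal.algebraMap_residueField_eq_zero (I := q), map_sub, map_mul, sub_eq_zero, mul_comm]
      exact h2
    intro x
    rw [ConcreteCategory.isIso_iff_bijective]
    exact ⟨((Spec.map (CommRingCat.ofHom φ)).residueFieldMap x).hom.injective,
      (UnivHomeo.residueFieldMap_surjective_iff φ).2 htriv x⟩

/-- universal homeomorphisms with trivial residue extensions are integral and `N`-bijective -/
theorem Nmap_bijective_of_univHomeo (φ : A →+* B) (hu : FlatMor.IsUnivHomeo (Spec.map (CommRingCat.ofHom φ)))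
    (hr : HTop.ResidueFieldsIso (Spec.map (CommRingCat.ofHom φ))) :
    φ.IsIntegral ∧ Function.Bijective (FieldEndo.ident.{u}.Nmap φ) := by
  obtain ⟨hint, hrad, hker⟩ := (UnivHomeo.isUnivHomeo_iff φ).1 hu
  refine ⟨hint, (Nmap_bijective_iff FieldEndo.ident.{u} φ).2 ⟨(hu (𝟙 (Spec (CommRingCat.of B))) (𝟙 (Spec (CommRingCat.of A))) (Spec.map (CommRingCat.ofHom φ)) (IsPullback.of_vert_isIso ⟨by simp⟩)).bijective, fun q => ?_⟩⟩
  have htriv : UnivHomeo.Triv φ := (UnivHomeo.residueFieldMap_surjective_iff φ).1 fun x => by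
    haveI := hr x
    exact (ConcreteCategory.bijective_of_isIso ((Spec.map (CommRingCat.ofHom φ)).residueFieldMap x)).2
  change Function.Bijective (res φ q)
  refine ⟨(res φ q).injective, fun z => ?_⟩
  obtain ⟨⟨b, t⟩, hz⟩ := IsLocalization.surj (nonZeroDivisors (B ⧸ q.asIdeal)) z
  obtain ⟨b, rfl⟩ := Ideal.Quotient.mk_surjective b
  obtain ⟨t, ht⟩ := t
  obtain ⟨t, rfl⟩ := Ideal.Quotient.mk_surjective t
  have hb : ∀ c : B, algebraMap B q.asIdeal.ResidueField c ∈ (res φ q).fieldRange := fun c => by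
    obtain ⟨a, s, hs, has⟩ := htriv q.asIdeal q.2 c
    rw [← Ideal.algebraMap_residueField_eq_zero (I := q.asIdeal), map_sub, map_mul, sub_eq_zero] at has
    have hs' : algebraMap B q.asIdeal.ResidueField (φ s) ≠ 0 := fun h => hs (Ideal.algebraMap_residueField_eq_zero.1 h)
    rw [(eq_div_iff hs').2 ((mul_comm _ _).trans has)]
    exact Subfield.div_mem _ ⟨_, Ideal.ResidueField.map_algebraMap _ _ φ rfl a⟩ ⟨_, Ideal.ResidueField.map_algebraMap _ _ φ rfl s⟩
  have ht' : algebraMap B q.asIdeal.ResidueField t ≠ 0 := fun h =>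
    nonZeroDivisors.ne_zero ht (Ideal.Quotient.eq_zero_iff_mem.2 (Ideal.algebraMap_residueField_eq_zero.1 h))
  have hz' : z * algebraMap B q.asIdeal.ResidueField t = algebraMap B q.asIdeal.ResidueField b := hz
  rw [(eq_div_iff ht').2 hz']
  exact Subfield.div_mem _ (hb b) (hb t)

end Groth.Agent.EtaLib
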