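import Groth.Agent.EtaLib.QMap
import Mathlib.RingTheory.IntegralClosure.IsIntegralClosure.Basic

/-! Universal property of `q η A` and the relative ring. -/

universe u

namespace Groth.Agent.EtaLib
open EtaPt

variable (η : FieldEndo.{u}) {A B C : Type u} [CommRing A] [CommRing B] [CommRing C]

/-- `N f` restricted to `M` -/
noncomputable def Mmap (f : A →+* B) : η.M A →+* η.M B :=
  ((η.Nmap f).comp (η.M A).subtype).codRestrict (η.M B) fun x => mem_M_map η f x.2

lemma Mmap_coe (f : A →+* B) (x : η.M A) : (Mmap η f x : η.N B) = η.Nmap f (x : η.N A) := rfl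

lemma Mmap_comp_q (f : A →+* B) : (Mmap η f).comp (η.q A) = (η.q B).comp f :=
  RingHom.ext fun a => Subtype.ext (Nmap_t η f a)

lemma Mmap_bijective {f : A →+* B} (hf : f.IsIntegral) (hN : Function.Bijective (η.Nmap f)) :
    Function.Bijective (Mmap η f) :=
  ⟨fun x y h => Subtype.ext (hN.1 (congrArg Subtype.val h)), fun y => by
    obtain ⟨x, hx, hxy⟩ := (Nmap_bijOn_M η hf hN).surjOn y.2
    exact ⟨⟨x, hx⟩, Subtype.ext hxy⟩⟩

theorem existsUnique_lift (g : A →+* B) (hg : g.IsIntegral) (hN : Function.Bijective (η.Nmap g)) :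
    ∃! g' : B →+* η.M A, g'.comp g = η.q A := by
  let e := RingEquiv.ofBijective _ (Mmap_bijective η hg hN)
  refine ⟨e.symm.toRingHom.comp (η.q B), RingHom.ext fun a => e.injective ?_, fun g' h => ?_⟩
  · exact (e.apply_symm_apply _).trans (RingHom.congr_fun (Mmap_comp_q η g) a).symm
  · refine hom_ext_M η hN (h.trans (RingHom.ext fun a => e.injective ?_))
    exact (RingHom.congr_fun (Mmap_comp_q η g) a).trans (e.apply_symm_apply _).symm

theorem bijective_of_reduced (hA : (minimalPrimes A).Finite) [IsReduced B] (f : η.M A →+* B)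
    (hf : f.IsIntegral) (hN : Function.Bijective (η.Nmap f)) : Function.Bijective f := by
  have hgN : Function.Bijective (η.Nmap (f.comp (η.q A))) := by
    have : ⇑(η.Nmap (f.comp (η.q A))) = η.Nmap f ∘ η.Nmap (η.q A) := funext fun x => Nmap_comp η _ _ x
    rw [this]; exact hN.comp (Nmap_q_bijective η hA)
  obtain ⟨g', hg', -⟩ := existsUnique_lift η (f.comp (η.q A))
    (RingHom.IsIntegral.trans _ _ (q_isIntegral η hA) hf) hgN
  have h1 : g'.comp f = RingHom.id _ := hom_ext_M η (Nmap_q_bijective η hA) (by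
    rw [RingHom.comp_assoc, hg', RingHom.id_comp])
  have h2 : f.comp g' = RingHom.id _ := hom_ext_reduced η hgN (by
    rw [RingHom.comp_assoc, hg', RingHom.id_comp])
  exact Function.bijective_iff_has_inverse.2 ⟨g', RingHom.congr_fun h1, RingHom.congr_fun h2⟩

theorem Nmap_q_eq_t (hA : (minimalPrimes A).Finite) (x : η.M A) :
    η.Nmap (η.q A) (x : η.N A) = η.t (η.M A) x := by
  funext Q
  refine RingHom.congr_fun (hom_ext_of_bijective η (Nmap_q_bijective η hA)
    (ψ₁ := (Pi.evalRingHom (fun P : PrimeSpectrum (η.M A) => η.obj P.asIdeal.ResidueField) Q).comp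
      ((η.Nmap (η.q A)).comp (η.M A).subtype))
    (ψ₂ := (Pi.evalRingHom (fun P : PrimeSpectrum (η.M A) => η.obj P.asIdeal.ResidueField) Q).comp
      (η.t (η.M A))) (RingHom.ext fun a => ?_)) x
  exact congrFun (Nmap_t η (η.q A) a) Q

theorem q_M_bijective (hA : (minimalPrimes A).Finite) : Function.Bijective (η.q (η.M A)) := by
  rw [show η.q (η.M A) = Mmap η (η.q A) from RingHom.ext fun x => Subtype.ext (Nmap_q_eq_t η hA x).symm]
  exact Mmap_bijective η (q_isIntegral η hA) (Nmap_q_bijective η hA)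

section rel

variable {η}
variable {f : A →+* B}

lemma mem_rel_iff {b : B} : b ∈ η.rel f ↔ ∃ x ∈ η.M A, η.Nmap f x = η.t B b := Iff.rfl

lemma qRel_coe (a : A) : (η.qRel f a : B) = f a := rfl

lemma qRel_bijective_iff : Function.Bijective (η.qRel f) ↔ Function.Injective f ∧ ∀ b ∈ η.rel f, b ∈ f.range :=
  ⟨fun h => ⟨fun a a' e => h.1 (Subtype.ext e), fun b hb => by
    obtain ⟨a, ha⟩ := h.2 ⟨b, hb⟩
    exact ⟨a, congrArg Subtype.val ha⟩⟩,
  fun h => ⟨fun a a' e => h.1 (congrArg Subtype.val e), fun b => by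
    obtain ⟨a, ha⟩ := h.2 b b.2
    exact ⟨a, Subtype.ext ha⟩⟩⟩

variable (η) in
theorem qRel_isIntegral (hA : (minimalPrimes A).Finite) (f : A →+* B) : (η.qRel f).IsIntegral := by
  rintro ⟨b, x, hx, hxb⟩
  obtain ⟨P, hP, hev⟩ := q_isIntegral η hA ⟨x, hx⟩
  have h1 : η.t B (P.eval₂ f b) = 0 := by
    rw [Polynomial.hom_eval₂]
    have h2 := congrArg (η.Nmap f) (congrArg (η.M A).subtype hev)
    rw [Polynomial.hom_eval₂, Polynomial.hom_eval₂, map_zero, map_zero] at h2
    rw [← h2, ← hxb]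
    congr 1
    exact RingHom.ext fun a => (Nmap_t η f a).symm
  obtain ⟨n, hn⟩ := (t_eq_zero_iff η _).1 h1
  refine ⟨P ^ n, hP.pow n, Subtype.ext ?_⟩
  change (η.rel f).subtype (Polynomial.eval₂ (η.qRel f) _ (P ^ n)) = 0
  rw [Polynomial.eval₂_pow, map_pow, Polynomial.hom_eval₂]
  exact hn

/-- the map from the relative ring to `M η A` -/
lemma exists_relToM (f : A →+* B) (hs : Function.Surjective (PrimeSpectrum.comap f)) :
    ∃ h : η.rel f →+* η.M A, h.comp (η.qRel f) = η.q A ∧
      ∀ b, η.Nmap f (h b : η.N A) = η.t B b := by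
  let j := (η.Nmap f).comp (η.M A).subtype
  have hj : Function.Injective j := fun x y h => Subtype.ext (Nmap_injective η hs h)
  let e := RingEquiv.ofBijective j.rangeRestrict
    ⟨fun x y h => hj (congrArg Subtype.val h), j.rangeRestrict_surjective⟩
  let k : η.rel f →+* j.range := ((η.t B).comp (η.rel f).subtype).codRestrict j.range fun b => by
    obtain ⟨x, hx, hxb⟩ := mem_rel_iff.1 b.2
    exact ⟨⟨x, hx⟩, hxb⟩
  have hk : ∀ b, η.Nmap f (e.symm (k b) : η.N A) = η.t B b := fun b =>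
    congrArg Subtype.val (e.apply_symm_apply (k b))
  refine ⟨e.symm.toRingHom.comp k, RingHom.ext fun a => hj ?_, hk⟩
  exact (hk _).trans (Nmap_t η f a).symm

theorem comap_qRel_bijective (hA : (minimalPrimes A).Finite) (f : A →+* B)
    (hs : Function.Surjective (PrimeSpectrum.comap f)) :
    Function.Bijective (PrimeSpectrum.comap (η.qRel f)) ∧ Function.Bijective (η.Nmap (η.qRel f)) := by
  obtain ⟨h, hq, hb⟩ := exists_relToM (η := η) f hs
  have hint : h.IsIntegral := RingHom.IsIntegral.tower_top (η.qRel f) h (hq ▸ q_isIntegral η hA)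
  have hsurj : Function.Surjective (PrimeSpectrum.comap h) := by
    intro P
    letI := h.toAlgebra
    haveI : Algebra.IsIntegral (η.rel f) (η.M A) := ⟨hint⟩
    have hle : (⊥ : Ideal (η.M A)).comap (algebraMap (η.rel f) (η.M A)) ≤ P.asIdeal := by
      intro b hb0
      have h0 : η.t B (b : B) = 0 := by
        rw [← hb, show h b = 0 from hb0]; exact map_zero _
      obtain ⟨n, hn⟩ := (t_eq_zero_iff η _).1 h0
      exact P.2.mem_of_pow_mem n (by rw [show b ^ n = 0 from Subtype.ext hn]; exact zero_mem _)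
    obtain ⟨Q, -, hQ, hQc⟩ := Ideal.exists_ideal_over_prime_of_isIntegral P.asIdeal ⊥ hle
    exact ⟨⟨Q, hQ⟩, PrimeSpectrum.ext hQc⟩
  have hq' := comap_q_bijective η hA
  rw [← hq, PrimeSpectrum.comap_comp] at hq'
  refine ⟨⟨fun P P' e => ?_, hq'.2.of_comp⟩, ?_⟩
  · obtain ⟨Q, rfl⟩ := hsurj P
    obtain ⟨Q', rfl⟩ := hsurj P'
    rw [hq'.1 (a₁ := Q) (a₂ := Q') e]
  · have hN := Nmap_q_bijective η hA
    rw [← hq, show ⇑(η.Nmap (h.comp (η.qRel f))) = η.Nmap h ∘ η.Nmap (η.qRel f) from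
      funext fun x => Nmap_comp η _ _ x] at hN
    have hh : Function.Bijective (η.Nmap h) := ⟨Nmap_injective η hsurj, hN.2.of_comp⟩
    exact (hh.of_comp_iff' _).1 hN

end rel

end Groth.Agent.EtaLib
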