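import Groth.Agent.EtaLib.Lift

/-! Membership in `M` of roots of diagonal elements. -/

universe u

namespace Groth.Agent.EtaLib
open EtaPt

variable (η : FieldEndo.{u}) {A : Type u} [CommRing A]

lemma mem_M_of_pow {x : η.N A} {a : A} {m : ℕ} (hm : 0 < m)
    (hinj : ∀ (S : Type u) [Field S], (A →+* S) → Function.Injective (fun s : S => s ^ m))
    (hx : x ^ m = η.t A a) : x ∈ η.M A := by
  refine mem_M_of η fun R _ _ _ hR g => ?_
  obtain ⟨y, hy⟩ := hR.2 (ev η ((algebraMap R (FractionRing R)).comp g) x)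
  have hym : y ^ m = algebraMap R (FractionRing R) (g a) := by
    apply (η.eta _).injective
    rw [map_pow, hy, ← map_pow, hx, ev_t]
    rfl
  obtain ⟨r, rfl⟩ := IsIntegrallyClosed.isIntegral_iff.1
    (IsIntegral.of_pow hm (show IsIntegral R (y ^ m) by rw [hym]; exact isIntegral_algebraMap))
  have hr : r ^ m = g a := IsFractionRing.injective R (FractionRing R) (by rw [map_pow, hym])
  refine ⟨r, fun q => hinj _ ((η.eta _).comp ((algebraMap R q.asIdeal.ResidueField).comp g)) ?_⟩
  dsimp only
  rw [← map_pow, ← map_pow, hx, ev_t, ← map_pow, hr]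
  rfl

end Groth.Agent.EtaLib
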