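import Groth.Agent.EtaLib.Good

/-! The map `q η A` induces a bijection on spectra, purely inseparable residue extensions. -/

universe u

namespace Groth.Agent.EtaLib
open EtaPt

variable (η : FieldEndo.{u}) {A : Type u} [CommRing A]

/-- projection of `M η A` to a factor -/
noncomputable def evM (p : PrimeSpectrum A) : η.M A →+* η.obj p.asIdeal.ResidueField :=
  (Pi.evalRingHom (fun p : PrimeSpectrum A => η.obj p.asIdeal.ResidueField) p).comp (η.M A).subtype

lemma evM_apply (p : PrimeSpectrum A) (x : η.M A) : evM η p x = (x : η.N A) p := rfl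

lemma evM_comp_q (p : PrimeSpectrum A) :
    (evM η p).comp (η.q A) = (η.eta p.asIdeal.ResidueField).comp (algebraMap A _) := rfl

lemma comap_q_ker_evM (p : PrimeSpectrum A) :
    PrimeSpectrum.comap (η.q A) (pt (evM η p)) = p := by
  apply PrimeSpectrum.ext
  ext a
  rw [PrimeSpectrum.comap_asIdeal, Ideal.mem_comap, pt_asIdeal, RingHom.mem_ker]
  change η.eta p.asIdeal.ResidueField (algebraMap A p.asIdeal.ResidueField a) = 0 ↔ _
  rw [map_eq_zero, Ideal.algebraMap_residueField_eq_zero]

/-- the prime of `M η A` above `p` is the kernel of the projection at `p` -/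
lemma eq_ker_evM (hA : (minimalPrimes A).Finite) (Q : PrimeSpectrum (η.M A)) :
    Q = pt (evM η (PrimeSpectrum.comap (η.q A) Q)) := by
  classical
  -- some minimal prime component
  haveI : Finite {p : PrimeSpectrum A // p.asIdeal ∈ minimalPrimes A} :=
    (hA.preimage fun _ _ _ _ h => PrimeSpectrum.ext h).to_subtype
  haveI := Fintype.ofFinite {p : PrimeSpectrum A // p.asIdeal ∈ minimalPrimes A}
  obtain ⟨p0, hp0⟩ : ∃ p : {p : PrimeSpectrum A // p.asIdeal ∈ minimalPrimes A},
      RingHom.ker (evM η p.1) ≤ Q.asIdeal := by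
    by_contra hne
    push Not at hne
    choose x hx hxQ using fun p => SetLike.not_le_iff_exists.1 (hne p)
    have h0 : ∏ p, x p = 0 := Subtype.ext (M_eq_zero η (SetLike.coe_mem _) fun p hp => by
      rw [← evM_apply, map_prod]
      exact Finset.prod_eq_zero (i := ⟨p, hp⟩) (Finset.mem_univ _) (hx _))
    obtain ⟨p, -, hp⟩ := Ideal.IsPrime.prod_mem_iff.1 (show ∏ p, x p ∈ Q.asIdeal by rw [h0]; exact zero_mem _)
    exact hxQ p hp
  have hu : ∀ s : Q.asIdeal.primeCompl, IsUnit (evM η p0.1 s) := fun s =>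
    isUnit_iff_ne_zero.2 fun h0 => s.2 (hp0 h0)
  obtain ⟨V, hV, hloc⟩ := IsLocalRing.exists_factor_valuationRing
    (IsLocalization.lift (S := Localization.AtPrime Q.asIdeal) hu)
  have hVx : ∀ x : η.M A, evM η p0.1 x ∈ V := fun x => by
    have := hV (algebraMap _ (Localization.AtPrime Q.asIdeal) x)
    rwa [IsLocalization.lift_eq hu x] at this
  let ψ : η.M A →+* V := (evM η p0.1).codRestrict V.toSubring hVx
  have hψ : ∀ x : η.M A, x ∈ Q.asIdeal ↔ ψ x ∈ IsLocalRing.maximalIdeal V := fun x => by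
    rw [← IsLocalization.AtPrime.to_map_mem_maximal_iff (Localization.AtPrime Q.asIdeal) Q.asIdeal x]
    have h1 : ψ x = RingHom.codRestrict (IsLocalization.lift (S := Localization.AtPrime Q.asIdeal) hu)
        V.toSubring hV (algebraMap _ _ x) := Subtype.ext (IsLocalization.lift_eq hu x).symm
    rw [h1]
    exact (map_mem_nonunits_iff (RingHom.codRestrict _ V.toSubring hV) _).symm
  let g : A →+* V := ψ.comp (η.q A)
  have hpt : pt ((IsLocalRing.residue V).comp g) = PrimeSpectrum.comap (η.q A) Q := by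
    apply PrimeSpectrum.ext
    ext a
    rw [pt_asIdeal, RingHom.mem_ker, RingHom.comp_apply, IsLocalRing.residue_eq_zero_iff,
      PrimeSpectrum.comap_asIdeal, Ideal.mem_comap, hψ]
    rfl
  have key : ∀ x : η.M A, x ∈ Q.asIdeal ↔ (x : η.N A) (PrimeSpectrum.comap (η.q A) Q) = 0 := by
    intro x
    obtain ⟨r, hr⟩ := exists_value η (valuationSubring_inV η (eta_obj_bijective η) V) g x.2
    have h1 := hr _ (algebraMap V (η.obj p0.1.asIdeal.ResidueField))
    rw [show (algebraMap V (η.obj p0.1.asIdeal.ResidueField)).comp g = (η.eta _).comp (algebraMap A _) from rfl,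
      ev_comp_field, ev_proj, ← eta_obj_eq] at h1
    have hr0 : r = ψ x := Subtype.ext ((eta_obj_bijective η).injective h1).symm
    have h2 := hr _ (IsLocalRing.residue V)
    rw [hψ, ← IsLocalRing.residue_eq_zero_iff, ← hr0]
    constructor
    · intro h0
      rw [h0, map_zero] at h2
      exact eq_zero_of_ev η (by rw [← hpt]; rfl) h2
    · intro h0
      have h3 : ev η ((IsLocalRing.residue V).comp g) (x : η.N A) = 0 := by
        obtain ⟨ρ, hρ⟩ := exists_hom_of_eq ((IsLocalRing.residue V).comp g) hpt.symm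
        rw [ev_eq η ρ hρ, h0, map_zero]
      rw [h3] at h2
      exact (map_eq_zero _).1 h2.symm
  apply PrimeSpectrum.ext
  ext x
  rw [key, pt_asIdeal, RingHom.mem_ker, evM_apply]

theorem comap_q_bijective (hA : (minimalPrimes A).Finite) :
    Function.Bijective (PrimeSpectrum.comap (η.q A)) := by
  refine ⟨fun Q Q' h => ?_, fun p => ⟨_, comap_q_ker_evM η p⟩⟩
  rw [eq_ker_evM η hA Q, eq_ker_evM η hA Q', h]

theorem q_residue_factor (hA : (minimalPrimes A).Finite) (Q : PrimeSpectrum (η.M A)) :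
    ∃ φ : Q.asIdeal.ResidueField →+* η.obj (PrimeSpectrum.comap (η.q A) Q).asIdeal.ResidueField,
      φ.comp (Ideal.ResidueField.map (PrimeSpectrum.comap (η.q A) Q).asIdeal Q.asIdeal (η.q A) rfl) =
        η.eta (PrimeSpectrum.comap (η.q A) Q).asIdeal.ResidueField := by
  obtain ⟨ρ, hρ⟩ := exists_hom_of_eq (evM η (PrimeSpectrum.comap (η.q A) Q)) (eq_ker_evM η hA Q)
  refine ⟨ρ, Ideal.ResidueField.ringHom_ext (RingHom.ext fun a => ?_)⟩
  exact (congrArg ρ (Ideal.ResidueField.map_algebraMap _ _ (η.q A) rfl a)).trans (hρ _)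

theorem Nmap_q_bijective (hA : (minimalPrimes A).Finite) : Function.Bijective (η.Nmap (η.q A)) :=
  (Nmap_bijective_iff_factor η _).2 ⟨comap_q_bijective η hA, q_residue_factor η hA⟩

end Groth.Agent.EtaLib
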