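import Groth.Agent.EtaLib.Pow
import Mathlib.FieldTheory.Perfect

/-! `M` of a valuation ring. -/

universe u

namespace Groth.Agent.EtaLib
open EtaPt

variable (η : FieldEndo.{u}) (R : Type u) [CommRing R] [IsDomain R]

set_option quotPrecheck false
local notation "bp" => (⟨⊥, Ideal.isPrime_bot⟩ : PrimeSpectrum R)
local notation "K0" => Ideal.ResidueField (⊥ : Ideal R)
local notation "φ0" => (η.eta K0).comp (algebraMap R K0)

lemma eq_of_minimalPrime {p : PrimeSpectrum R} (hp : p.asIdeal ∈ minimalPrimes R) : p = bp := by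
  rw [IsDomain.minimalPrimes_eq_singleton_bot R, Set.mem_singleton_iff] at hp
  exact PrimeSpectrum.ext hp

lemma injOn_generic : Set.InjOn (fun x : η.N R => x bp) (η.M R) :=
  fun _ hx _ hy h => M_ext η hx hy fun _ hp => by rw [eq_of_minimalPrime R hp]; exact h

variable [ValuationRing R]

lemma exists_mem_M_of_isIntegralElem
    (hη : η.InV R ∨ ∀ (k : Type u) [Field k], ringChar k = ringChar R →
      Function.Bijective (η.eta k) → PerfectField k)
    {y : η.obj K0} (hy : (φ0).IsIntegralElem y) : ∃ x ∈ η.M R, x bp = y := by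
  obtain ⟨P, hP, hev⟩ := hy
  have key : ∀ b, η.eta K0 b = y → ∃ x ∈ η.M R, x bp = y := fun b hb => by
    obtain ⟨r, hr⟩ := IsIntegrallyClosed.isIntegral_iff.1 (show IsIntegral R b from ⟨P, hP,
      (η.eta K0).injective (by rw [Polynomial.hom_eval₂, hb, map_zero]; exact hev)⟩)
    exact ⟨η.t R r, η.t_mem_M R r, by rw [← hb, ← hr]; rfl⟩
  rcases hη with hV | hperf
  · obtain ⟨b, hb⟩ := ((inV_iff η R K0).1 hV).2 y
    exact key b hb
  obtain ⟨n, a, ha⟩ := η.exists_pow_mem_range_eta K0 y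
  haveI : CharP K0 (ringChar R) := charP_of_injective_algebraMap (IsFractionRing.injective R K0) _
  rcases CharP.char_is_prime_or_zero R (ringChar R) with hp | h0
  swap
  · haveI : CharP K0 0 := h0 ▸ this
    haveI : CharZero K0 := CharP.charP_to_charZero K0
    rw [show ringExpChar K0 = 1 from ringExpChar.eq K0 1, one_pow, pow_one] at ha
    exact key a ha
  set p := ringChar R with hpR
  haveI := Fact.mk hp
  haveI : ExpChar K0 p := ExpChar.prime hp
  rw [ringExpChar.eq K0 p] at ha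
  have hm : 0 < p ^ n := pow_pos hp.pos n
  obtain ⟨r, hr⟩ : ∃ r, algebraMap R K0 r = a := by
    refine IsIntegrallyClosed.isIntegral_iff.1 ?_
    letI := RingHom.toAlgebra φ0
    have h1 : IsIntegral R (y ^ p ^ n) := IsIntegral.pow ⟨P, hP, hev⟩ _
    obtain ⟨Q, hQ, hQev⟩ := h1
    refine ⟨Q, hQ, (η.eta K0).injective ?_⟩
    rw [Polynomial.hom_eval₂, map_zero, ha]
    exact hQev
  have hroot : ∀ P : PrimeSpectrum R, ∃ z : η.obj P.asIdeal.ResidueField, z ^ p ^ n = η.t R r P := by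
    intro P
    haveI : CharP (η.obj P.asIdeal.ResidueField) p := by
      refine (CharP.charP_iff_prime_eq_zero hp).2 ?_
      rw [← map_natCast ((η.eta _).comp (algebraMap R P.asIdeal.ResidueField)) p, CharP.cast_eq_zero R p, map_zero]
    haveI : ExpChar (η.obj P.asIdeal.ResidueField) p := ExpChar.prime hp
    haveI : PerfectField (η.obj P.asIdeal.ResidueField) :=
      hperf _ (ringChar.eq _ p) (eta_obj_bijective η)
    haveI := PerfectField.toPerfectRing (K := η.obj P.asIdeal.ResidueField) p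
    exact (bijective_iterateFrobenius (η.obj P.asIdeal.ResidueField) p n).2 _
  choose x hx using hroot
  refine ⟨x, mem_M_of_pow η hm (fun S _ ψ => ?_) (funext hx), ?_⟩
  · haveI : CharP S p := (CharP.charP_iff_prime_eq_zero hp).2 (by
      rw [← map_natCast ψ p, CharP.cast_eq_zero R p, map_zero])
    haveI : ExpChar S p := ExpChar.prime hp
    exact iterateFrobenius_inj S p n
  · haveI : ExpChar (η.obj K0) p := expChar_of_injective_ringHom (η.eta K0).injective p
    refine iterateFrobenius_inj (η.obj K0) p n ?_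
    simp only [iterateFrobenius_def]
    rw [← ha, ← hr]
    exact hx bp

theorem image_generic
    (hη : η.InV R ∨ ∀ (k : Type u) [Field k], ringChar k = ringChar R →
      Function.Bijective (η.eta k) → PerfectField k) :
    (fun x : η.N R => x bp) '' (η.M R : Set (η.N R)) = {y | (φ0).IsIntegralElem y} := by
  refine Set.ext fun y => ⟨?_, fun hy => ?_⟩
  · rintro ⟨x, hx, rfl⟩
    exact isIntegralElem_proj η hx bp
  · obtain ⟨x, hx, h⟩ := exists_mem_M_of_isIntegralElem η R hη hy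
    exact ⟨x, hx, h⟩

lemma isIntegralElem_of_pow {y : η.obj K0} {m : ℕ} (hm : 0 < m) (r : R) (h : y ^ m = φ0 r) :
    (φ0).IsIntegralElem y :=
  ⟨Polynomial.X ^ m - Polynomial.C r, Polynomial.monic_X_pow_sub_C r hm.ne', by simp [h]⟩

theorem valuation_props
    (hη : η.InV R ∨ ∀ (k : Type u) [Field k], ringChar k = ringChar R →
      Function.Bijective (η.eta k) → PerfectField k) :
    IsDomain (η.M R) ∧ PreValuationRing (η.M R) ∧
      (∀ y : η.obj K0, ∃ a b : η.M R, (b : η.N R) bp ≠ 0 ∧ y * (b : η.N R) bp = (a : η.N R) bp) ∧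
      (fun x : η.N R => x bp) '' (η.M R : Set (η.N R)) ∩ Set.range (η.eta K0) = Set.range φ0 := by
  let ψ : η.M R →+* η.obj K0 := evM η bp
  have hψ : Function.Injective ψ := fun a b h => Subtype.ext (injOn_generic η R a.2 b.2 h)
  have hexp : ∀ n, 0 < ringExpChar K0 ^ n := fun n => pow_pos (expChar_pos K0 _) n
  refine ⟨hψ.isDomain, ⟨fun a b => ?_⟩, fun y => ?_, ?_⟩
  · rcases eq_or_ne (ψ a) 0 with h0 | h0
    · exact ⟨0, .inr (hψ (by rw [map_mul, h0, map_zero, mul_zero]))⟩
    obtain ⟨n, z, hz⟩ := η.exists_pow_mem_range_eta K0 (ψ b / ψ a)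
    rcases ValuationRing.isInteger_or_isInteger R z with ⟨r, hr⟩ | ⟨r, hr⟩
    · obtain ⟨x, hx, hxy⟩ := exists_mem_M_of_isIntegralElem η R hη
        (isIntegralElem_of_pow η R (hexp n) r (by rw [← hz, RingHom.comp_apply, hr]))
      refine ⟨⟨x, hx⟩, .inl (hψ ?_)⟩
      rw [map_mul, show ψ ⟨x, hx⟩ = _ from hxy, mul_div_cancel₀ _ h0]
    · obtain ⟨x, hx, hxy⟩ := exists_mem_M_of_isIntegralElem η R hη (y := (ψ b / ψ a)⁻¹)
        (isIntegralElem_of_pow η R (hexp n) r (by rw [inv_pow, ← hz, RingHom.comp_apply, hr, map_inv₀]))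
      rcases eq_or_ne (ψ b) 0 with hb | hb
      · exact ⟨0, .inl (hψ (by rw [map_mul, hb, map_zero, mul_zero]))⟩
      refine ⟨⟨x, hx⟩, .inr (hψ ?_)⟩
      rw [map_mul, show ψ ⟨x, hx⟩ = _ from hxy, inv_div, mul_div_cancel₀ _ hb]
  · obtain ⟨n, z, hz⟩ := η.exists_pow_mem_range_eta K0 y
    obtain ⟨⟨r, s⟩, hrs⟩ := IsLocalization.surj (nonZeroDivisors R) z
    obtain ⟨x, hx, hxy⟩ := exists_mem_M_of_isIntegralElem η R hη (y := y * φ0 s)
      (isIntegralElem_of_pow η R (hexp n) (r * (s : R) ^ (ringExpChar K0 ^ n - 1)) (by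
        rw [mul_pow, ← hz, map_mul φ0, map_pow φ0, RingHom.comp_apply, RingHom.comp_apply, ← hrs, map_mul,
          mul_assoc, ← pow_succ', Nat.sub_add_cancel (hexp n)]))
    refine ⟨⟨x, hx⟩, ⟨η.t R s, η.t_mem_M R s⟩, ?_, hxy.symm⟩
    exact fun h => (IsLocalization.map_units K0 s).ne_zero ((map_eq_zero (η.eta K0)).1 h)
  · refine Set.ext fun y => ⟨?_, ?_⟩
    · rintro ⟨hy, z, rfl⟩
      rw [image_generic η R hη] at hy
      obtain ⟨P, hP, hev⟩ := hy
      obtain ⟨r, rfl⟩ := IsIntegrallyClosed.isIntegral_iff.1 (show IsIntegral R z from ⟨P, hP,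
        (η.eta K0).injective (by rw [Polynomial.hom_eval₂, map_zero]; exact hev)⟩)
      exact ⟨r, rfl⟩
    · rintro ⟨r, rfl⟩
      exact ⟨⟨η.t R r, η.t_mem_M R r, rfl⟩, _, rfl⟩

end Groth.Agent.EtaLib
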